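import Cfsg.Agent.H28.RG.Syl
import Cfsg.Agent.H28.RG.PPrime
import Cfsg.Agent.H85.RelEnd
import Cfsg.Agent.H461.E2.Cent

/-!
# S3509, exceptional groups: the centralisers in `D.group k` (helper28)

`t ∈ TT D k`, `τ` a frame automorphism with `IsFrob r e τ`, `τ t = t`, preserving the positive roots of `Sx t`.
`KK = ((MM t) T)^τ`.

* `KK_le`, `KK_conj` : `KK` is normal in `fixC τ t`;
* `mem_KK` : the elements of `fixC τ t` of order prime to the order of `t` are in `KK`;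
* `core_KK`, `core` : `O_r = 1`;
* `KK_gen` : `KK` is generated by the fixed points of the positive, the negative root groups of `Sx t` and of the torus.
-/

set_option autoImplicit false
set_option linter.unusedSectionVars false

namespace Cfsg.Agent.H28.RG.Cent

open CoxeterSystem Cfsg Cfsg.Lie Cfsg.Lie.ChevalleyDatum
open Cfsg.Agent.ChevalleyStructure Cfsg.Agent.ChevalleyStructure.Elts Cfsg.Agent.ChevalleyStructure.CoxeterGeom
  Cfsg.Agent.ChevalleyStructure.CoxeterGeomTypes Cfsg.Agent.ChevalleyStructure.NPerm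
open Cfsg.Agent.Tits.Roots Cfsg.Agent.Tits.Core Cfsg.Agent.Nodes Cfsg.Agent.Nodes.Reps Cfsg.Agent.Nodes.BNOf
  Cfsg.Agent.Nodes.RGDChev Cfsg.Agent.Nodes.Bruhat Cfsg.Agent.Nodes.NormalForm
open Cfsg.Agent.KFacts.RgdField Cfsg.Agent.KFacts.RgdChevCoord
open Cfsg.Agent.BpExc Cfsg.Agent.BpExc.TorCent Cfsg.Agent.BpExc.TorChev Cfsg.Agent.BpExc.Tow
  Cfsg.Agent.BpExc.TowChev Cfsg.Agent.BpExc.Fr Cfsg.Agent.BpExc.Pair Cfsg.Agent.BpExc.LangFr Cfsg.Agent.GpExc.Field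
  Cfsg.Agent.BpExc.NChev Cfsg.Agent.BpExc.Asm Cfsg.Agent.BpExc.Zc Cfsg.Agent.BpExc.RelBN Cfsg.Agent.BpExc.SubBN
  Cfsg.Agent.BpExc.FixRel
open scoped commutatorElement

universe u v

variable {D : ChevalleyDatum} {l : ℕ} {M : CoxeterMatrix (Fin l)} (hp : IsType D l M)
  {W : Type v} [Group W] (cs : CoxeterSystem M W) {k : Type u} [Field k]

/-- the group `((MM t) T)^τ` -/
noncomputable def KK (t : ↥(D.group k)) (τ : MulAut ↥(D.group k)) : Subgroup ↥(D.group k) :=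
  (MM cs hp.isCartan (XX D l k) (ch hp) t ⊔ TT D k) ⊓ fixedSubgroup τ

/-- the fixed points of the group of a set of roots -/
def UF (τ : MulAut ↥(D.group k)) (S : Set (Fin l → ℤ)) : Subgroup ↥(D.group k) :=
  RGD.Sup (XX D l k) S ⊓ fixedSubgroup τ

section Alg

variable [IsAlgClosed k] (hk : LocFin k) {r : ℕ} [Fact r.Prime] [CharP k r]
  {t : ↥(D.group k)} (ht : t ∈ TT D k) {τ : MulAut ↥(D.group k)}

include hk ht r in
theorem MT_le : MM cs hp.isCartan (XX D l k) (ch hp) t ⊔ TT D k ≤ Subgroup.centralizer {t} := by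
  have C := coordsL (k := k) hp cs hk r
  refine sup_le (MM_le_centralizer C ht) fun s hs => ?_
  rw [Subgroup.mem_centralizer_singleton_iff]
  exact TT_comm hp s hs t ht

include hk ht r in
theorem KK_le : KK hp cs t τ ≤ fixC τ t := by
  intro y hy
  exact mem_fixC.2 ⟨hy.2, Subgroup.mem_centralizer_singleton_iff.1 (MT_le hp cs hk (r := r) ht hy.1)⟩

include hk ht r in
theorem KK_conj {c : ↥(D.group k)} (hc : c ∈ fixC τ t) {y : ↥(D.group k)} (hy : y ∈ KK hp cs t τ) :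
    c * y * c⁻¹ ∈ KK hp cs t τ := by
  have := finite_W hp cs
  have H := tow (k := k) hp cs hk r
  have C := coordsL (k := k) hp cs hk r
  have hG := GG_eq_top (k := k) hp cs hk
  have hTL := TL_eq (k := k) hp hk
  have hXL := XL_eq (k := k) hp hk
  have C' : Coords cs hp.isCartan (TL (Tj hp (k := k))) (nc hp k) (XL (Xj hp (k := k))) (xc hp) (ch hp) := by
    rw [hTL, hXL]; exact C
  have ht' : t ∈ TL (Tj hp (k := k)) := by rw [hTL]; exact ht
  have h1 := (Good.normalizer_MM H C' hG ht' (c := c) (mem_fixC.1 hc).2).2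
  rw [hTL, hXL] at h1
  refine ⟨(Subgroup.mem_normalizer_iff.1 h1 y).1 hy.1, ?_⟩
  show τ (c * y * c⁻¹) = c * y * c⁻¹
  rw [map_mul, map_mul, map_inv, (mem_fixC.1 hc).1, show τ y = y from hy.2]

include hk ht r in
/-- **The elements of order prime to the order of `t`.** -/
theorem mem_KK {m : ℕ} (htm : t ^ m = 1) {c : ↥(D.group k)} (hc : c ∈ fixC τ t) {o : ℕ} (ho : o.Coprime m)
    (hco : c ^ o = 1) : c ∈ KK hp cs t τ := by
  have := finite_W hp cs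
  have H := tow (k := k) hp cs hk r
  have C := coordsL (k := k) hp cs hk r
  have hA := chAddL (k := k) hp cs hk r
  have hG := GG_eq_top (k := k) hp cs hk
  have hTL := TL_eq (k := k) hp hk
  have hXL := XL_eq (k := k) hp hk
  have C' : Coords cs hp.isCartan (TL (Tj hp (k := k))) (nc hp k) (XL (Xj hp (k := k))) (xc hp) (ch hp) := by
    rw [hTL, hXL]; exact C
  have ht' : t ∈ TL (Tj hp (k := k)) := by rw [hTL]; exact ht
  have hA' : ChAdd cs hp.isCartan (TL (Tj hp (k := k))) (ch (K := k) hp) := by rw [hTL]; exact hA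
  have hchi : ∀ a, IsRoot cs hp.isCartan a → ch hp a t ^ m = 1 := by
    intro a ha
    have h0 : ch hp a (1 : ↥(D.group k)) = 1 := by
      have h1 := (C.coord a ha).chi_mul (one_mem (TT D k)) (one_mem _)
      rw [mul_one] at h1
      exact (mul_eq_left₀ ((C.coord a ha).chi_ne_zero (one_mem _))).1 h1.symm
    have h1 : ∀ j : ℕ, ch hp a (t ^ j) = ch hp a t ^ j := by
      intro j
      induction j with
      | zero => rw [pow_zero, pow_zero, h0]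
      | succ j ih => rw [pow_succ, pow_succ, (C.coord a ha).chi_mul (pow_mem ht j) ht, ih]
    rw [← h1, htm, h0]
  obtain ⟨j, hj, hjm, h1⟩ := PPrime.exists_pow H C' hA' hG ht' hchi (mem_fixC.1 hc).2
  rw [hTL, hXL] at h1
  have hcop : o.Coprime j := by
    rw [Nat.coprime_comm]
    refine Nat.coprime_of_dvd' fun q hq h2 h3 => ?_
    have h4 := Nat.dvd_gcd h3 (hjm q hq h2)
    rwa [ho] at h4
  refine ⟨?_, (mem_fixC.1 hc).1⟩
  have h2 : c ^ (j : ℤ) ∈ MM cs hp.isCartan (XX D l k) (ch hp) t ⊔ TT D k := by rw [zpow_natCast]; exact h1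
  have h3 : c = (c ^ (j : ℤ)) ^ (o.gcdB j) := by
    have h4 : (1 : ℤ) = o * o.gcdA j + j * o.gcdB j := by
      rw [← Nat.gcd_eq_gcd_ab, hcop]; rfl
    calc c = c ^ (1 : ℤ) := (zpow_one c).symm
      _ = c ^ ((o : ℤ) * o.gcdA j + j * o.gcdB j) := by rw [← h4]
      _ = (c ^ (o : ℤ)) ^ o.gcdA j * (c ^ (j : ℤ)) ^ o.gcdB j := by rw [zpow_add, zpow_mul, zpow_mul]
      _ = _ := by rw [zpow_natCast c o, hco, one_zpow, one_mul]
  rw [h3]
  exact Subgroup.zpow_mem _ h2 _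

end Alg

section Main

variable [IsAlgClosed k] (hk : LocFin k) {r e : ℕ} [Fact r.Prime] [CharP k r]
  {t : ↥(D.group k)} (ht : t ∈ TT D k) (he : 0 < e) {τ : MulAut ↥(D.group k)}
  (hτ : IsFrob r e τ) {g : (Fin l → ℤ) ≃+ (Fin l → ℤ)} (F : Fr cs hp.isCartan (TT D k) (XX D l k) τ g)
  (hτt : τ t = t) (hpos : ∀ a ∈ Sx cs hp.isCartan (ch hp) t, 0 ≤ a → 0 ≤ g a)

include hk ht he hτ F hτt hpos

/-- **The relative root data of `KK`.** -/
theorem rel [Finite ↥(KK hp cs t τ)] :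
    ∃ E : Lev k, ∃ (ι : Type) (_ : Rel ((tow (k := k) hp cs hk r).rgd E) (Sx cs hp.isCartan (ch hp) t)
        (KK hp cs t τ) ι),
      (∃ v g', Rp cs ((tow (k := k) hp cs hk r).rgd E).nsys v g' ∧ g' ∈ KK hp cs t τ ∧
        ∀ a ∈ Sp (Sx cs hp.isCartan (ch hp) t), rep cs hp.isCartan v a ≤ 0) ∧
      ∀ c ⊆ Sx cs hp.isCartan (ch hp) t, ∀ u ∈ RGD.Sup (XX D l k) c, τ u = u → u ∈ RGD.Sup (Xj hp E) c := by
  have hWf := finite_W hp cs
  have hfin : Finite ↥((MM cs hp.isCartan (XX D l k) (ch hp) t ⊔ TT D k) ⊓ fixedSubgroup τ) := ‹_›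
  obtain ⟨E, hE⟩ := H85.RelEnd.frame hp cs hk ht he hτ F hτt hpos
  obtain ⟨h1, h2, h3, h4, h5, h6⟩ := hE E le_rfl
  have hS := EndInst.zclosed hp cs hk r ht
  obtain ⟨lam, hlam, hlpos⟩ := h1.exists_lam hS
  have hZ := EndInst.commZ (k := k) hp cs E
  have hfix := FixEnd.fx h1 hZ hS h2 hlam hlpos h3
  have h5' : KK hp cs t τ = Gf (Tj hp E) (Xj hp E) (Sx cs hp.isCartan (ch hp) t) τ := h5.symm
  refine ⟨E, {c // Wall (Sx cs hp.isCartan (ch hp) t) g lam c}, ?_⟩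
  rw [h5']
  obtain ⟨v, -, g', hg', hv, hneg⟩ := FixRel.exists_opp h1 hZ hS h2 hlam hlpos hfix
  exact ⟨FixRel.rel h1 hZ hS h2 hlam hlpos hfix, ⟨v, g', hv, hg', hneg⟩, h6⟩

/-- **`O_r(KK) = 1`.** -/
theorem core_KK [Finite ↥(KK hp cs t τ)] : pCore r ↥(KK hp cs t τ) = ⊥ := by
  have := finite_W hp cs
  obtain ⟨E, ι, Dr, hopp, -⟩ := rel hp cs hk ht he hτ F hτt hpos
  exact Syl.core Dr hopp

/-- **The Sylow subgroup of `KK`.** -/
theorem eq_UF [Finite ↥(KK hp cs t τ)] {Q : Subgroup ↥(KK hp cs t τ)} (hQ : IsPGroup r Q)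
    (hU : (UF τ (Sp (Sx cs hp.isCartan (ch hp) t))).subgroupOf (KK hp cs t τ) ≤ Q) :
    Q = (UF τ (Sp (Sx cs hp.isCartan (ch hp) t))).subgroupOf (KK hp cs t τ) := by
  have := finite_W hp cs
  obtain ⟨E, ι, Dr, hopp, h6⟩ := rel hp cs hk ht he hτ F hτt hpos
  have e : (UF τ (Sp (Sx cs hp.isCartan (ch hp) t))).subgroupOf (KK hp cs t τ) =
      (RGD.Sup (Xj hp E) (Sp (Sx cs hp.isCartan (ch hp) t))).subgroupOf (KK hp cs t τ) := by
    ext y
    rw [Subgroup.mem_subgroupOf, Subgroup.mem_subgroupOf]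
    constructor
    · rintro ⟨h1, h2⟩
      exact h6 (Sp (Sx cs hp.isCartan (ch hp) t)) (fun a ha => ha.1) _ h1 h2
    · intro h1
      refine ⟨?_, y.2.2⟩
      have h2 := Sup_le_SupL E _ h1
      rwa [XL_eq (k := k) hp hk] at h2
  rw [e] at hU ⊢
  exact Syl.eq_U Dr hQ hU

/-- **The generation of `KK`.** -/
theorem KK_gen [Finite ↥(KK hp cs t τ)] : KK hp cs t τ ≤
    UF τ (Sp (Sx cs hp.isCartan (ch hp) t)) ⊔ UF τ (Syl.Sn (Sx cs hp.isCartan (ch hp) t)) ⊔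
      (TT D k ⊓ fixedSubgroup τ) := by
  have := finite_W hp cs
  obtain ⟨E, ι, Dr, hopp, h6⟩ := rel hp cs hk ht he hτ F hτt hpos
  have hT : Tj hp E ≤ TT D k := by rw [← TL_eq (k := k) hp hk]; exact le_TL E
  have hle : ∀ S, RGD.Sup (Xj hp E) S ⊓ KK hp cs t τ ≤ UF τ S := by
    rintro S y ⟨h1, h2⟩
    have h3 := Sup_le_SupL E _ h1
    rw [XL_eq (k := k) hp hk] at h3
    exact ⟨h3, h2.2⟩
  exact (Syl.le_gen Dr).trans (sup_le_sup (sup_le_sup (hle _) (hle _)) fun y hy => ⟨hT hy.1, hy.2.2⟩)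

/-- **`O_r(C_Y(t)^τ) = 1`.** -/
theorem core [Finite ↥(fixC τ t)] {m : ℕ} (htm : t ^ m = 1) (hm : r.Coprime m) : pCore r ↥(fixC τ t) = ⊥ := by
  have hKC := KK_le hp cs hk (r := r) ht (τ := τ)
  have hfin : Finite ↥(KK hp cs t τ) := Finite.of_injective (Subgroup.inclusion hKC) (Subgroup.inclusion_injective _)
  have h1 := core_KK hp cs hk ht he hτ F hτt hpos
  have hN : ((KK hp cs t τ).subgroupOf (fixC τ t)).Normal := ⟨fun y hy c => KK_conj hp cs hk (r := r) ht c.2 hy⟩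
  have hle : pCore r ↥(fixC τ t) ≤ (KK hp cs t τ).subgroupOf (fixC τ t) := by
    intro c hc
    obtain ⟨j, hj⟩ := Cfsg.Agent.Lib.Cores.pCore_isPGroup r ⟨c, hc⟩
    have hj' : (c : ↥(D.group k)) ^ r ^ j = 1 :=
      congrArg (fun z : ↥(fixC τ t) => (z : ↥(D.group k))) (congrArg Subtype.val hj)
    exact mem_KK hp cs hk (r := r) ht htm c.2 (Nat.Coprime.pow_left j hm) hj'
  have h2 := Cfsg.Agent.Lib.Cores.map_subtype_pCore r hN
  have h3 : pCore r ↥((KK hp cs t τ).subgroupOf (fixC τ t)) = ⊥ := by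
    have e : ↥((KK hp cs t τ).subgroupOf (fixC τ t)) ≃* ↥(KK hp cs t τ) := Subgroup.subgroupOfEquivOfLe hKC
    rw [← Cfsg.Agent.Lib.Cores.map_equiv_pCore e.symm, h1, Subgroup.map_bot]
  rw [h3, Subgroup.map_bot] at h2
  rw [eq_bot_iff]
  intro c hc
  rw [h2]
  exact ⟨hle hc, hc⟩

end Main

/-- **(B) for the group `Y^σ`**: `O_r(C_{Y^σ}(x)) = 1` for `x ∈ Y^σ` of order prime to `r`, conjugate into the torus. -/
theorem core_fixC [IsAlgClosed k] (hk : LocFin k) {r : ℕ} [Fact r.Prime] [CharP k r]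
    {σ : MulAut ↥(D.group k)} {g : (Fin l → ℤ) ≃+ (Fin l → ℤ)} {e : ℕ} (he : 0 < e) (hσ : IsFrob r e σ)
    (Fσ : Fr cs hp.isCartan (TT D k) (XX D l k) σ g) {x : ↥(D.group k)}
    (hσx : σ x = x) {z t : ↥(D.group k)} (hz : z⁻¹ * x * z = t) (ht : t ∈ TT D k) {m : ℕ} (hxm : x ^ m = 1)
    (hm : r.Coprime m) [Finite ↥(fixC σ x)] : pCore r ↥(fixC σ x) = ⊥ := by
  obtain ⟨τ, g', h1, h2, h3, h4, ⟨E⟩⟩ := Cfsg.Agent.H461.E2.Cent.exists_pair' hp cs hk he hσ Fσ hσx hz ht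
  have : Finite ↥(fixC τ t) := Finite.of_equiv _ E.symm.toEquiv
  have htm : t ^ m = 1 := by
    have e : z⁻¹ * x * z = z⁻¹ * x * z⁻¹⁻¹ := by group
    rw [← hz, e, conj_pow, hxm]; group
  have h5 := core hp cs hk ht he h1 h2 h3 h4 htm hm
  rw [← Cfsg.Agent.Lib.Cores.map_equiv_pCore E, h5, Subgroup.map_bot]

/-- **(B) for normal subgroups**: a group `N` embedded in `Y^σ` as a normal subgroup. -/
theorem core_of_normal [IsAlgClosed k] (hk : LocFin k) {r : ℕ} [Fact r.Prime] [CharP k r]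
    {σ : MulAut ↥(D.group k)} {g : (Fin l → ℤ) ≃+ (Fin l → ℤ)} {e : ℕ} (he : 0 < e) (hσ : IsFrob r e σ)
    (Fσ : Fr cs hp.isCartan (TT D k) (XX D l k) σ g) {x : ↥(D.group k)}
    (hσx : σ x = x) {z t : ↥(D.group k)} (hz : z⁻¹ * x * z = t) (ht : t ∈ TT D k) {m : ℕ} (hxm : x ^ m = 1)
    (hm : r.Coprime m) [Finite ↥(fixC σ x)] {N : Subgroup ↥(D.group k)}
    (hN : ∀ c ∈ fixC σ x, ∀ n ∈ N, c * n * c⁻¹ ∈ N) : pCore r ↥(N ⊓ fixC σ x) = ⊥ := by
  have h1 := core_fixC hp cs hk he hσ Fσ hσx hz ht hxm hm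
  have hn : ((N ⊓ fixC σ x).subgroupOf (fixC σ x)).Normal := by
    refine ⟨fun y hy c => ?_⟩
    rw [Subgroup.mem_subgroupOf] at hy ⊢
    exact ⟨hN c c.2 y hy.1, Subgroup.mul_mem _ (Subgroup.mul_mem _ c.2 hy.2) (Subgroup.inv_mem _ c.2)⟩
  have h2 := Cfsg.Agent.Lib.Cores.map_subtype_pCore r hn
  rw [h1, inf_bot_eq] at h2
  have h3 : pCore r ↥((N ⊓ fixC σ x).subgroupOf (fixC σ x)) = ⊥ :=
    (Subgroup.map_eq_bot_iff_of_injective _ (Subgroup.subtype_injective _)).1 h2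
  have e : ↥((N ⊓ fixC σ x).subgroupOf (fixC σ x)) ≃* ↥(N ⊓ fixC σ x) := Subgroup.subgroupOfEquivOfLe inf_le_right
  rw [← Cfsg.Agent.Lib.Cores.map_equiv_pCore e, h3, Subgroup.map_bot]

end Cfsg.Agent.H28.RG.Cent
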