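import Cfsg.Agent.H85.RelV
import Cfsg.Agent.Lib.Cores

/-!
# S3509, exceptional groups: groups with relative root data (helper28)

`D : Rel R S G ι`, `U_G = Sup X (Sp S) ⊓ G`, `V_G = Sup X {a ∈ S : a ≤ 0} ⊓ G`.

* `le_gen` : `G` is generated by `U_G`, `V_G` and `T ⊓ G`;
* `norm_le` : `N_G(U_G) ≤ B`;
* `eq_U` : `U_G` is a maximal `p`-subgroup of `G`;
* `core` : `O_p(G) = 1` if an element of `G` maps `S⁺` to `S⁻`.
-/

set_option autoImplicit false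
set_option linter.unusedSectionVars false

namespace Cfsg.Agent.H28.RG.Syl

open CoxeterSystem Cfsg.Agent.ChevalleyStructure.CoxeterGeom Cfsg.Agent.Tits.Roots Cfsg.Agent.Tits.Core
  Cfsg.Agent.Tits.Exchange Cfsg.Agent.Nodes.Reps Cfsg.Agent.Nodes.BNOf Cfsg.Agent.Nodes.StabComb
  Cfsg.Agent.Nodes.Comb Cfsg.Agent.Nodes.Bruhat Cfsg.Agent.Nodes.OppDec Cfsg.Agent.Nodes.Slope
  Cfsg.Agent.Nodes.NormalForm Cfsg.Agent.Nodes.SubComb Cfsg.Agent.Nodes.Coroot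
  Cfsg.Agent.ChevalleyStructure.AbstractBN Cfsg.Agent.BpExc.Zc Cfsg.Agent.BpExc.RelBN Cfsg.Agent.BpExc.SubBN
  Cfsg.Agent.BpExc.FixRel Cfsg.Agent.BpExc.TitsRed
open scoped commutatorElement

variable {I W Y : Type*} [Fintype I] [DecidableEq I] [Group W] [Group Y] {M : CoxeterMatrix I}
  {cs : CoxeterSystem M W} {A : I → I → ℤ} {h : IsCartan M A} {p : ℕ} {T : Subgroup Y} {n : I → Y}
  {X : (I → ℤ) → Subgroup Y}
  {R : RGD cs h p T n X} {S : Set (I → ℤ)} {G : Subgroup Y} {ι : Type*} (D : Rel R S G ι) [Finite W]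

/-- the negative roots of `S` -/
def Sn (S : Set (I → ℤ)) : Set (I → ℤ) := {a | a ∈ S ∧ a ≤ 0}

include D

/-- `G` is generated by `U_G`, `V_G` and `T ⊓ G`. -/
theorem le_gen : G ≤ (RGD.Sup X (Sp S) ⊓ G) ⊔ (RGD.Sup X (Sn S) ⊓ G) ⊔ (T ⊓ G) := by
  refine D.gen.trans (sup_le (sup_le (le_sup_left.trans le_sup_left) ?_) le_sup_right)
  rw [Subgroup.closure_le]
  rintro _ ⟨i, rfl⟩
  obtain ⟨x, hx, hxG, hx1⟩ := D.ne i
  have h1 : D.k i * x * (D.k i)⁻¹ ∈ RGD.Sup X (clN S (D.f i)) :=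
    conj_mem_Sup R (D.rp i) (S := cl S (D.f i)) (S' := clN S (D.f i)) (fun a ha => D.root a ha.1)
      (fun a ha => D.w_cl i ha) hx
  have h1G : D.k i * x * (D.k i)⁻¹ ∈ G := mul_mem (mul_mem (D.kG i) hxG) (inv_mem (D.kG i))
  obtain ⟨u, hu, huG, t, ht, htG, v, hv, hvG, e⟩ :=
    D.rk i _ h1 h1G (fun e => hx1 (conj_eq_one_iff.1 e))
  have e2 : D.k i = t⁻¹ * u⁻¹ * (D.k i * x * (D.k i)⁻¹) * v⁻¹ := by
    rw [e]; group
  rw [SetLike.mem_coe, e2]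
  have hU : ∀ {z : Y}, z ∈ RGD.Sup X (cl S (D.f i)) → z ∈ G →
      z ∈ (RGD.Sup X (Sp S) ⊓ G) ⊔ (RGD.Sup X (Sn S) ⊓ G) ⊔ (T ⊓ G) := fun hz hzG =>
    Subgroup.mem_sup_left (Subgroup.mem_sup_left ⟨RGD.Sup_mono (D.cl_sub i) hz, hzG⟩)
  refine mul_mem (mul_mem (mul_mem (inv_mem (Subgroup.mem_sup_right ⟨ht, htG⟩)) (inv_mem (hU hu huG))) ?_)
    (inv_mem (hU hv hvG))
  exact Subgroup.mem_sup_left (Subgroup.mem_sup_right
    ⟨RGD.Sup_mono (S := clN S (D.f i)) (S' := Sn S) (fun a ha => ⟨ha.1, ha.2.1⟩) h1, h1G⟩)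

/-- **The normaliser of `U_G` is `B`.** -/
theorem norm_le : Subgroup.normalizer (((RGD.Sup X (Sp S)).subgroupOf G : Subgroup ↥G) : Set ↥G) ≤ D.bn.B := by
  set Nm := Subgroup.normalizer (((RGD.Sup X (Sp S)).subgroupOf G : Subgroup ↥G) : Set ↥G) with hNm
  have hB : D.bn.B ≤ Nm := by
    rw [D.bn_B]
    refine sup_le Subgroup.le_normalizer ?_
    intro t ht
    rw [Subgroup.mem_subgroupOf] at ht
    rw [hNm, Subgroup.mem_normalizer_iff]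
    intro u
    have h1 := Subgroup.mem_normalizer_iff.1 (R.T_le_normalizer (S := Sp S) (fun a ha => D.root a ha.1) ht) (u : Y)
    exact h1
  have h1 := LieExceptional.BNPairCore.eq_parabolic (P := D.bn) hB
  have h2 : D.bn.S ∩ ((Nm : Subgroup ↥G) : Set ↥G) = ∅ := by
    rw [Set.eq_empty_iff_forall_notMem]
    rintro g ⟨hg, hgN⟩
    rw [D.bn_S] at hg
    obtain ⟨i, rfl⟩ := hg
    obtain ⟨x, hx, hxG, hx1⟩ := D.ne i
    have h3 : D.k i * x * (D.k i)⁻¹ ∈ RGD.Sup X (clN S (D.f i)) :=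
      conj_mem_Sup R (D.rp i) (S := cl S (D.f i)) (S' := clN S (D.f i)) (fun a ha => D.root a ha.1)
        (fun a ha => D.w_cl i ha) hx
    have h4 : (⟨x, hxG⟩ : ↥G) ∈ (RGD.Sup X (Sp S)).subgroupOf G := RGD.Sup_mono (D.cl_sub i) hx
    have h5 := (Subgroup.mem_normalizer_iff.1 hgN ⟨x, hxG⟩).1 h4
    have h6 : D.k i * x * (D.k i)⁻¹ ∈ RGD.Sup X (Sp S) := h5
    have h7 : D.k i * x * (D.k i)⁻¹ = 1 :=
      eq_one_of_mem_UN_of_mem_B R (RGD.Sup_mono (S := clN S (D.f i)) (S' := Neg cs h)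
        (fun a ha => ⟨D.root a ha.1, ha.2.1⟩) h3) (RGD.U_le_B (D.Sup_le_U h6))
    exact hx1 (conj_eq_one_iff.1 h7)
  rw [h1, h2]
  rw [Cfsg.BNPair.parabolic]
  exact sup_le le_rfl (by simp)

/-- an element of `p`-power order of `B` is in `U_G` -/
theorem mem_U [Fact p.Prime] {g : ↥G} (hg : g ∈ D.bn.B) {m : ℕ} (hm : g ^ p ^ m = 1) :
    g ∈ (RGD.Sup X (Sp S)).subgroupOf G := by
  obtain ⟨u, hu, huG, t, ht, htG, e⟩ := D.mem_bn_B.1 hg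
  have hT : ∀ j : ℕ, ∃ v ∈ RGD.Sup X (Sp S), (u * t) ^ j = v * t ^ j := by
    intro j
    induction j with
    | zero => exact ⟨1, one_mem _, by rw [pow_zero, pow_zero, one_mul]⟩
    | succ j ih =>
      obtain ⟨v, hv, e1⟩ := ih
      refine ⟨v * (t ^ j * u * (t ^ j)⁻¹), mul_mem hv ?_, ?_⟩
      · exact (Subgroup.mem_normalizer_iff.1 (R.T_le_normalizer (S := Sp S) (fun a ha => D.root a ha.1)
          (pow_mem ht j)) u).1 hu
      · rw [pow_succ, e1, pow_succ]; group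
  obtain ⟨v, hv, e1⟩ := hT (p ^ m)
  have h1 : (g : Y) ^ p ^ m = 1 := by
    have := congrArg (fun z : ↥G => (z : Y)) hm
    exact this
  rw [e, e1] at h1
  have h2 : t ^ p ^ m = 1 := by
    have h3 : v = (t ^ p ^ m)⁻¹ := eq_inv_of_mul_eq_one_left h1
    have h4 : v ∈ T := by rw [h3]; exact inv_mem (pow_mem ht _)
    have h5 : v = 1 := by
      have h6 : IsPGroup p ↥(RGD.Sup X (Sp S)) := R.isPGroup_of_pos fun a ha => ⟨D.root a ha.1, ha.2⟩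
      obtain ⟨k, hk⟩ := h6 ⟨v, hv⟩
      have hk' : v ^ p ^ k = 1 := congrArg (fun z : ↥(RGD.Sup X (Sp S)) => (z : Y)) hk
      have h8 : orderOf (⟨v, h4⟩ : ↥T) ∣ p ^ k := orderOf_dvd_of_pow_eq_one (Subtype.ext hk')
      have h9 : orderOf (⟨v, h4⟩ : ↥T) ∣ Nat.card ↥T := orderOf_dvd_natCard _
      have h10 : orderOf (⟨v, h4⟩ : ↥T) = 1 := Nat.eq_one_of_dvd_coprimes (Nat.Coprime.pow_right k R.tcop) h9 h8
      rw [orderOf_eq_one_iff] at h10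
      exact congrArg (fun z : ↥T => (z : Y)) h10
    rw [h5, one_mul] at h1
    exact h1
  have h3 : t = 1 := by
    have h8 : orderOf (⟨t, ht⟩ : ↥T) ∣ p ^ m := orderOf_dvd_of_pow_eq_one (Subtype.ext h2)
    have h9 : orderOf (⟨t, ht⟩ : ↥T) ∣ Nat.card ↥T := orderOf_dvd_natCard _
    have h10 : orderOf (⟨t, ht⟩ : ↥T) = 1 := Nat.eq_one_of_dvd_coprimes (Nat.Coprime.pow_right m R.tcop) h9 h8
    rw [orderOf_eq_one_iff] at h10
    exact congrArg (fun z : ↥T => (z : Y)) h10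
  rw [Subgroup.mem_subgroupOf, e, h3, mul_one]
  exact hu

/-- **`U_G` is a maximal `p`-subgroup.** -/
theorem eq_U [Fact p.Prime] [Finite ↥G] {Q : Subgroup ↥G} (hQ : IsPGroup p Q)
    (hU : (RGD.Sup X (Sp S)).subgroupOf G ≤ Q) : Q = (RGD.Sup X (Sp S)).subgroupOf G := by
  set U := (RGD.Sup X (Sp S)).subgroupOf G with hUdef
  by_contra hne
  have hlt : U.subgroupOf Q < ⊤ := by
    rw [lt_top_iff_ne_top]
    intro h1
    rw [Subgroup.subgroupOf_eq_top] at h1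
    exact hne (le_antisymm h1 hU)
  have hnc := Group.normalizerCondition_of_isNilpotent (G := ↥Q) (h := hQ.isNilpotent)
  have h2 := hnc _ hlt
  obtain ⟨-, x, hx, hxU⟩ := SetLike.lt_iff_le_and_exists.1 h2
  have h3 : (x : ↥G) ∈ Subgroup.normalizer ((U : Subgroup ↥G) : Set ↥G) := by
    rw [Subgroup.mem_normalizer_iff]
    intro u
    have key : ∀ y : ↥Q, y ∈ Subgroup.normalizer ((U.subgroupOf Q : Subgroup ↥Q) : Set ↥Q) → ∀ u ∈ U,
        (y : ↥G) * u * (y : ↥G)⁻¹ ∈ U := by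
      intro y hy u hu
      exact (Subgroup.mem_normalizer_iff.1 hy ⟨u, hU hu⟩).1 hu
    refine ⟨fun hu => key x hx u hu, fun hu => ?_⟩
    have h4 := key x⁻¹ (inv_mem hx) _ hu
    have e : ((x⁻¹ : ↥Q) : ↥G) * ((x : ↥G) * u * (x : ↥G)⁻¹) * ((x⁻¹ : ↥Q) : ↥G)⁻¹ = u := by
      rw [Subgroup.coe_inv]; group
    rwa [e] at h4
  obtain ⟨m, hm⟩ := hQ x
  apply hxU
  exact mem_U D (norm_le D h3) (m := m) (congrArg (fun z : ↥Q => (z : ↥G)) hm)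

/-- **`O_p(G) = 1`.** -/
theorem core [Fact p.Prime] [Finite ↥G] (hopp : ∃ v g, Rp cs R.nsys v g ∧ g ∈ G ∧ ∀ a ∈ Sp S, rep cs h v a ≤ 0) :
    Cfsg.pCore p ↥G = ⊥ := by
  set O := Cfsg.pCore p ↥G with hO
  set U := (RGD.Sup X (Sp S)).subgroupOf G with hUdef
  have hOn : O.Normal := Cfsg.Agent.Lib.Cores.pCore_normal p
  have hOp : IsPGroup p O := Cfsg.Agent.Lib.Cores.pCore_isPGroup p
  have hUp : IsPGroup p U :=
    (R.isPGroup_of_pos (S := Sp S) fun a ha => ⟨D.root a ha.1, ha.2⟩).comap_subtype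
  have h1 : IsPGroup p (O ⊔ U : Subgroup ↥G) := hOp.to_sup_of_normal_left hUp
  have h2 := eq_U D h1 le_sup_right
  have h3 : O ≤ U := by
    calc O ≤ O ⊔ U := le_sup_left
      _ = U := h2
  obtain ⟨v, g, hg, hgG, hv⟩ := hopp
  rw [eq_bot_iff]
  intro x hx
  have h4 : (⟨g, hgG⟩ : ↥G) * x * (⟨g, hgG⟩ : ↥G)⁻¹ ∈ U := h3 (hOn.conj_mem x hx _)
  have h5 : g * (x : Y) * g⁻¹ ∈ RGD.Sup X (Sp S) := h4
  have h6 : g * (x : Y) * g⁻¹ ∈ RGD.Sup X (Neg cs h) :=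
    conj_mem_Sup R hg (S := Sp S) (S' := Neg cs h) (fun a ha => D.root a ha.1)
      (fun a ha => ⟨(D.root a ha.1).act v, hv a ha⟩) (h3 hx)
  have h7 := eq_one_of_mem_UN_of_mem_B R h6 (RGD.U_le_B (D.Sup_le_U h5))
  rw [Subgroup.mem_bot]
  exact Subtype.ext (conj_eq_one_iff.1 h7)

end Cfsg.Agent.H28.RG.Syl
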